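import Groth.Agent.Deform.SpecialGrp.Basic
import Groth.Agent.Deform.Neutral.FlatHom
import Groth.Agent.Deform.Chev.SemiAbelian
import Groth.Prelude.Def_ActBC
import Mathlib.AlgebraicGeometry.SpreadingOut
import Mathlib.AlgebraicGeometry.FunctionField

/-!
# Special groups: torsors have sections at generic points
-/

set_option autoImplicit false
set_option linter.style.haveILetI false
set_option linter.unusedSectionVars false
set_option backward.isDefEq.respectTransparency.types false
set_option maxHeartbeats 1000000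

universe u

open CategoryTheory CategoryTheory.Limits MonoidalCategory CartesianMonoidalCategory MonObj GrpObj AlgebraicGeometry

attribute [local instance] CategoryTheory.Hom.monoid CategoryTheory.Hom.group

noncomputable section

namespace Groth.Agent.Deform.SpecialGrp

open Tors9

/-- An iso of groups, underneath. -/
def isoOfGrp {S : Scheme.{u}} {Q Q' : Over S} [GrpObj Q] [GrpObj Q'] (e : Grp.mk Q ≅ Grp.mk Q') : Q ≅ Q' :=
  ⟨e.hom.hom.hom, e.inv.hom.hom, congrArg (fun f => f.hom.hom) e.hom_inv_id, congrArg (fun f => f.hom.hom) e.inv_hom_id⟩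

/-- The groups `Q` is the additive or the multiplicative group. -/
def IsGaGm {S : Scheme.{u}} (Q : Over S) [GrpObj Q] : Prop :=
  Nonempty (Grp.mk Q ≅ Grp.mk (Red.Ga S)) ∨ Nonempty (Grp.mk Q ≅ Grp.mk (Red.Gm S))

theorem qTriv_of_isGaGm {S : Scheme.{u}} {Q : Over S} [GrpObj Q] (hQ : IsGaGm Q) {K : Type u} [Field K]
    (j : Spec (CommRingCat.of K) ⟶ S) : QTriv j Q := by
  rcases hQ with ⟨⟨e⟩⟩ | ⟨⟨e⟩⟩
  · haveI : IsMonHom (isoOfGrp e).hom := e.hom.hom.isMonHom_hom
    exact qTriv_of_hom j (isoOfGrp e) (qTriv_Ga j)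
  · haveI : IsMonHom (isoOfGrp e).hom := e.hom.hom.isMonHom_hom
    exact qTriv_of_hom j (isoOfGrp e) (qTriv_Gm j)

theorem surjective_map {S S' : Scheme.{u}} (π : S' ⟶ S) {G H : Over S} (f : G ⟶ H) [Surjective f.left] :
    Surjective ((Over.pullback π).map f).left :=
  MorphismProperty.of_isPullback (Neutral.isPullback_map π f).flip ‹Surjective f.left›

/-- All torsors over fields under `B` with a point in an extension are trivial. -/
def Special {S : Scheme.{u}} (B : Over S) [GrpObj B] : Prop :=
  (∀ (K : Type u) [Field K] (j : Spec (CommRingCat.of K) ⟶ S), SpecialAt (Red.bc j B)) ∧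
  ∀ {Y : Scheme.{u}} (π : Y ⟶ S) (K : Type u) [Field K] (j : Spec (CommRingCat.of K) ⟶ Y),
    SpecialAt (Red.bc j (Red.bc π B))

theorem isTrivialGrp_bc {S S' : Scheme.{u}} (π : S' ⟶ S) (B : Over S) (hB : Red.IsTrivialGrp B) :
    Red.IsTrivialGrp (Red.bc π B) := by
  haveI : IsIso B.hom := hB
  exact inferInstanceAs (IsIso (pullback.snd B.hom π))

theorem special_of_trivial {S : Scheme.{u}} (B : Over S) [GrpObj B] (hB : Red.IsTrivialGrp B) : Special B :=
  ⟨fun _ _ j => specialAt_of_trivial _ (isTrivialGrp_bc j B hB),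
    fun π _ _ j => specialAt_of_trivial _ (isTrivialGrp_bc j _ (isTrivialGrp_bc π B hB))⟩

theorem special_step {S : Scheme.{u}} {B' B Q : Over S} [GrpObj B'] [GrpObj B] [GrpObj Q]
    (i : B' ⟶ B) [IsMonHom i] (q : B ⟶ Q) [IsMonHom q] [Surjective q.left] (hk : AlgGrp.IsKernel i q)
    (hQ : IsGaGm Q) (hB' : Special B') : Special B := by
  refine ⟨fun K _ j => ?_, fun {Y} π K _ j => ?_⟩
  · haveI := surjective_map j q
    refine specialAt_step ((Over.pullback j).map i) ((Over.pullback j).map q) (Chev.SemiAbelian.isKernel_bc j i q hk)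
      (qTriv_bc j _ ?_) (hB'.1 K j)
    rw [Category.id_comp]
    exact qTriv_of_isGaGm hQ j
  · haveI := surjective_map π q
    haveI := surjective_map j ((Over.pullback π).map q)
    refine specialAt_step ((Over.pullback j).map ((Over.pullback π).map i))
      ((Over.pullback j).map ((Over.pullback π).map q)) (Chev.SemiAbelian.isKernel_bc j _ _ (Chev.SemiAbelian.isKernel_bc π i q hk))
      (qTriv_bc j _ ?_) (hB'.2 π K j)
    rw [Category.id_comp]
    exact qTriv_bc π j (qTriv_of_isGaGm hQ (j ≫ π))

/-- A field point of a torsor over a field. -/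
theorem exists_fieldPt {K : Type u} [Field K] (X : Over (Spec (CommRingCat.of K))) [Nonempty X.left] :
    ∃ (F : Type u) (_ : Field F) (_ : Algebra K F), Nonempty (P (𝟙 (Spec (CommRingCat.of K))) F ⟶ X) := by
  let x : X.left := Classical.arbitrary _
  let p : Spec (CommRingCat.of (X.left.residueField x)) ⟶ Spec (CommRingCat.of K) :=
    X.left.fromSpecResidueField x ≫ X.hom
  letI : Algebra K (X.left.residueField x) := (Spec.preimage p).hom.toAlgebra
  refine ⟨X.left.residueField x, inferInstance, inferInstance, ⟨Over.homMk (X.left.fromSpecResidueField x) ?_⟩⟩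
  show p = Spec.map (CommRingCat.ofHom (algebraMap K (X.left.residueField x))) ≫ 𝟙 _
  rw [Category.comp_id]
  exact (Spec.map_preimage p).symm

/-- A pseudo-torsor over `Y` under a special group has a section over a field point under it. -/
theorem hasSection_fieldPt {Y : Scheme.{u}} {G X : Over Y} [GrpObj G] {K : Type u} [Field K]
    (j : Spec (CommRingCat.of K) ⟶ Y) (hG : SpecialAt (Red.bc j G)) [Surjective X.hom]
    {a : AlgGrp.Action G X} (ha : NonAbH1.IsPseudoTorsorSch a) : NonAbH1.HasSectionOver X j := by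
  haveI : Nonempty (Red.bc j X).left := by
    obtain ⟨z, -⟩ := (pullback.snd X.hom j).surjective (IsLocalRing.closedPoint K)
    exact ⟨z⟩
  obtain ⟨s⟩ := hG _ (a.bc j) (NonAbH1.isPseudoTorsorSch_bc j ha) (exists_fieldPt _)
  refine ⟨s.left ≫ pullback.fst X.hom j, ?_⟩
  have h : s.left ≫ pullback.snd X.hom j = 𝟙 _ := Over.w s
  rw [Category.assoc, pullback.condition, reassoc_of% h]

/-- A section at the generic point spreads out. -/
theorem exists_section_of_generic {Y : Scheme.{u}} [IsIntegral Y] (X : Over Y) [LocallyOfFiniteType X.hom]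
    (h : ∀ (j : Spec (CommRingCat.of Y.functionField) ⟶ Y), NonAbH1.HasSectionOver X j) :
    ∃ U : Y.Opens, (U : Set Y).Nonempty ∧ ∃ s : (U : Scheme.{u}) ⟶ X.left, s ≫ X.hom = U.ι := by
  obtain ⟨s, hs⟩ := h (Y.fromSpecStalk (genericPoint Y))
  obtain ⟨U, hU, f, -, hf⟩ := spread_out_of_isGermInjective' (𝟙 Y) X.hom (x := genericPoint Y) s
    (hs.trans (Category.comp_id _).symm)
  exact ⟨U, ⟨_, hU⟩, f, hf.trans (Category.comp_id _)⟩

/-- Being a pullback square is the same as freeness and transitivity on points. -/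
theorem isPseudo_fibre {S : Scheme.{u}} {G X Y : Over S} [GrpObj G] (a : AlgGrp.Action G X) (f : X ⟶ Y)
    (hsq : IsPullback a.act (snd G X) f f) (y : 𝟙_ (Over S) ⟶ Y) :
    ∃ (X' : Over S) (jx : X' ⟶ X) (a' : AlgGrp.Action G X'), NonAbH1.IsPseudoTorsorSch a' ∧
      IsPullback jx (toUnit X') f y := by
  let X' : Over S := Over.mk (pullback.fst f.left y.left ≫ X.hom)
  let jx : X' ⟶ X := Over.homMk (pullback.fst f.left y.left) rfl
  let p₂ : X' ⟶ 𝟙_ (Over S) := Over.homMk (pullback.snd f.left y.left) (by
    show _ = pullback.fst f.left y.left ≫ X.hom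
    rw [← Over.w f, pullback.condition_assoc, Over.w y])
  have sq : IsPullback jx (toUnit X') f y := by
    rw [toUnit_unique (toUnit X') p₂]
    exact IsPullback.of_map (Over.forget _) (Over.OverMorphism.ext pullback.condition)
      (IsPullback.of_hasPullback f.left y.left)
  haveI : Mono jx := ⟨fun {T} u v e => sq.hom_ext e (toUnit_unique _ _)⟩
  let act' : G ⊗ X' ⟶ X' := sq.lift ((G ◁ jx) ≫ a.act) (toUnit _) (by
    rw [Category.assoc, hsq.w, whiskerLeft_snd_assoc, sq.w, ← Category.assoc, toUnit_unique (_ ≫ toUnit X') (toUnit _)])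
  have hact' : act' ≫ jx = (G ◁ jx) ≫ a.act := sq.lift_fst _ _ _
  let a' : AlgGrp.Action G X' :=
    { act := act'
      one_act := by
        rw [← cancel_mono jx, Category.assoc, hact', ← whisker_exchange_assoc, a.one_act, leftUnitor_naturality]
      mul_act := by
        rw [← cancel_mono jx, Category.assoc, hact', ← whisker_exchange_assoc, a.mul_act, associator_naturality_right_assoc]
        simp only [Category.assoc, hact']
        rw [← MonoidalCategory.whiskerLeft_comp_assoc, ← MonoidalCategory.whiskerLeft_comp_assoc, hact'] }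
  refine ⟨X', jx, a', ?_, sq⟩
  obtain ⟨r, hr1, hr2⟩ := hsq.exists_lift (fst X' X' ≫ jx) (snd X' X' ≫ jx) (by
    rw [Category.assoc, Category.assoc, sq.w, ← Category.assoc, ← Category.assoc,
      toUnit_unique (fst X' X' ≫ toUnit X') (snd X' X' ≫ toUnit X')])
  refine ⟨lift (r ≫ fst G X) (snd X' X'), ?_, ?_⟩
  · have h : lift act' (snd G X') ≫ r = G ◁ jx := by
      refine hsq.hom_ext ?_ ?_
      · rw [Category.assoc, hr1, lift_fst_assoc, hact']
      · rw [Category.assoc, hr2, lift_snd_assoc, whiskerLeft_snd]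
    apply CartesianMonoidalCategory.hom_ext
    · rw [Category.assoc, lift_fst, reassoc_of% h, whiskerLeft_fst, Category.id_comp]
    · simp [a']
  · apply CartesianMonoidalCategory.hom_ext
    · rw [Category.assoc, lift_fst, Category.id_comp, ← cancel_mono jx, Category.assoc, hact',
        lift_whiskerLeft_assoc, ← hr1]
      congr 1
      apply CartesianMonoidalCategory.hom_ext
      · simp
      · rw [lift_snd, hr2]
    · simp [a']

/-- A principal bundle under a special group has a section over a non-empty open of an integral base. -/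
theorem exists_section_open {S : Scheme.{u}} {B X Y : Over S} [GrpObj B] (hB : Special B) (a : AlgGrp.Action B X)
    (f : X ⟶ Y) [Surjective f.left] [LocallyOfFiniteType f.left] [IsIntegral Y.left]
    (hsq : IsPullback a.act (snd B X) f f) :
    ∃ U : Y.left.Opens, (U : Set Y.left).Nonempty ∧ ∃ s : (U : Scheme.{u}) ⟶ X.left, s ≫ f.left = U.ι := by
  haveI : LocallyOfFiniteType (Over.mk f.left).hom := ‹LocallyOfFiniteType f.left›
  refine exists_section_of_generic (Over.mk f.left) fun j => ?_
  let σ : Spec (CommRingCat.of Y.left.functionField) ⟶ S := j ≫ Y.hom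
  let F := Over.pullback σ
  haveI := surjective_map σ f
  let y : 𝟙_ (Over (Spec (CommRingCat.of Y.left.functionField))) ⟶ Red.bc σ Y :=
    Over.homMk (pullback.lift j (𝟙 _) (Category.id_comp σ).symm) (pullback.lift_snd _ _ _)
  have hsq' : IsPullback (a.bc σ).act (snd (Red.bc σ B) (Red.bc σ X)) (F.map f) (F.map f) := by
    refine IsPullback.of_iso (hsq.map F) (Functor.Monoidal.μIso F B X).symm (Iso.refl _) (Iso.refl _) (Iso.refl _)
      ?_ ?_ (by simp) (by simp)
    · simp [F, AlgGrp.Action.bc_act]
    · simp [F]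
  obtain ⟨X', jx, a', ha', sq⟩ := isPseudo_fibre (a.bc σ) (F.map f) hsq' y
  haveI : Nonempty X'.left := by
    haveI : Surjective (toUnit X').left :=
      MorphismProperty.of_isPullback (sq := sq.map (Over.forget _)) ‹Surjective (F.map f).left›
    obtain ⟨z, -⟩ := (toUnit X').left.surjective (IsLocalRing.closedPoint _)
    exact ⟨z⟩
  obtain ⟨s⟩ := hB.1 _ σ X' a' ha' (exists_fieldPt X')
  refine ⟨(s ≫ jx).left ≫ pullback.fst X.hom σ, ?_⟩
  have h : (s ≫ jx) ≫ F.map f = y := by
    rw [Category.assoc, sq.w, ← Category.assoc, toUnit_unique (s ≫ toUnit X') (𝟙 _), Category.id_comp]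
  have h1 := congrArg (fun m => m.left ≫ pullback.fst Y.hom σ) h
  simp only [y, Over.homMk_left, pullback.lift_fst] at h1
  rw [← h1]
  show _ = ((s ≫ jx).left ≫ (F.map f).left) ≫ _
  rw [Category.assoc, Category.assoc, (Neutral.isPullback_map σ f).w]
  rfl

end Groth.Agent.Deform.SpecialGrp
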