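import Groth.Agent.Deform.SpecialGrp.Main

/-!
# A group is a principal bundle over the quotient by a kernel
-/

set_option autoImplicit false
set_option linter.style.haveILetI false
set_option linter.unusedSectionVars false

universe u

open CategoryTheory CategoryTheory.Limits MonoidalCategory CartesianMonoidalCategory MonObj GrpObj AlgebraicGeometry

attribute [local instance] CategoryTheory.Hom.monoid CategoryTheory.Hom.group

noncomputable section

namespace Groth.Agent.Deform.SpecialGrp

/-- The left multiplication action along a homomorphism. -/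
def leftMul {S : Scheme.{u}} {B G : Over S} [GrpObj B] [GrpObj G] (i : B ⟶ G) [IsMonHom i] : AlgGrp.Action B G where
  act := (fst B G ≫ i) * snd B G
  one_act := by
    rw [MonObj.comp_mul]
    have h1 : (η[B] ▷ G) ≫ fst B G ≫ i = 1 := by
      rw [whiskerRight_fst_assoc, IsMonHom.one_hom, MonObj.one_eq_one, MonObj.comp_one]
    rw [h1, _root_.one_mul, whiskerRight_snd, leftUnitor_hom]
  mul_act := by
    have h1 : μ[B] = fst B B * snd B B := MonObj.mul_eq_mul B
    rw [h1, MonObj.comp_mul, whiskerRight_snd, whiskerRight_fst_assoc, MonObj.mul_comp, MonObj.comp_mul,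
      MonObj.comp_mul, whiskerLeft_fst_assoc, whiskerLeft_snd, MonObj.comp_mul, MonObj.comp_mul,
      MonObj.comp_mul]
    simp [_root_.mul_assoc]

/-- The group is a principal bundle over the quotient by a kernel. -/
theorem isPullback_leftMul {S : Scheme.{u}} {B G A : Over S} [GrpObj B] [GrpObj G] [GrpObj A]
    (i : B ⟶ G) [IsMonHom i] (α : G ⟶ A) [IsMonHom α] (hk : AlgGrp.IsKernel i α) :
    IsPullback (leftMul i).act (snd B G) α α := by
  have hmono : ∀ {T : Over S} (u v : T ⟶ B), u ≫ i = v ≫ i → u = v := fun u v e =>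
    hk.hom_ext e (toUnit_unique _ _)
  have w : (leftMul i).act ≫ α = snd B G ≫ α := by
    show ((fst B G ≫ i) * snd B G) ≫ α = _
    rw [MonObj.mul_comp, Category.assoc, hk.w, MonObj.one_eq_one, MonObj.comp_one, MonObj.comp_one, _root_.one_mul]
  have key : ∀ {T : Over S} (x y : T ⟶ G), x ≫ α = y ≫ α → ∃ b : T ⟶ B, b ≫ i = x * y⁻¹ := by
    intro T x y e
    obtain ⟨b, hb, -⟩ := hk.exists_lift (x * y⁻¹) (toUnit T) (by
      rw [MonObj.mul_comp, GrpObj.inv_comp, e, mul_inv_cancel, Hom.one_def])
    exact ⟨b, hb⟩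
  refine ⟨⟨w⟩, ⟨PullbackCone.IsLimit.mk w (fun s => lift (key s.fst s.snd s.condition).choose s.snd) ?_ ?_ ?_⟩⟩
  · intro s
    show lift _ _ ≫ ((fst B G ≫ i) * snd B G) = _
    rw [MonObj.comp_mul, lift_fst_assoc, lift_snd, (key s.fst s.snd s.condition).choose_spec, inv_mul_cancel_right]
  · intro s
    exact lift_snd _ _
  · intro s m h1 h2
    apply CartesianMonoidalCategory.hom_ext
    · rw [lift_fst]
      refine hmono _ _ ?_
      rw [(key s.fst s.snd s.condition).choose_spec, ← h1]
      show _ = (m ≫ ((fst B G ≫ i) * snd B G)) * _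
      rw [MonObj.comp_mul, h2, mul_inv_cancel_right, Category.assoc]
    · rw [lift_snd, h2]

end Groth.Agent.Deform.SpecialGrp
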