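import Groth.Agent.Deform.SpecialGrp.GaIso
import Groth.Agent.Deform.Borel.UnipKer
import Groth.Agent.UnipOne.Main
import Groth.Agent.VarDim.Basic
import Groth.Agent.S0607
import Mathlib.RingTheory.KrullDimension.Polynomial
import Mathlib.Algebra.Polynomial.Laurent
import Mathlib.RingTheory.PrincipalIdealDomain

/-!
# One-dimensional quotients of connected solvable groups
-/

universe u

open CategoryTheory CategoryTheory.Limits MonoidalCategory CartesianMonoidalCategory MonObj GrpObj AlgebraicGeometry
open WithConv TensorProduct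

attribute [local instance] CategoryTheory.Hom.monoid CategoryTheory.Hom.group
set_option linter.style.haveILetI false
set_option linter.unusedSectionVars false
set_option maxHeartbeats 1000000

namespace Groth.Agent.Deform.SpecialGrp

open GrpSchLib.AffineHopf
open Chev (Pt)

noncomputable section

variable {k : Type u} [Field k]

theorem ringKrullDim_laurent_le : ringKrullDim (MonoidAlgebra k (Multiplicative ℤ)) ≤ 1 := by
  rw [← ringKrullDim_eq_of_ringEquiv (AddMonoidAlgebra.toMultiplicative k ℤ)]
  have h1 : ringKrullDim (Polynomial k) = 1 := IsPrincipalIdealRing.ringKrullDim_eq_one _ (Polynomial.not_isField k)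
  rw [← h1]
  let e := IsLocalization.orderIsoOfPrime (Submonoid.powers (Polynomial.X : Polynomial k)) (LaurentPolynomial k)
  refine Order.krullDim_le_of_strictMono (fun P : PrimeSpectrum (LaurentPolynomial k) =>
    (⟨(e ⟨P.asIdeal, P.2⟩).1, (e ⟨P.asIdeal, P.2⟩).2.1⟩ : PrimeSpectrum (Polynomial k))) (fun P Q h => ?_)
  exact e.strictMono (show (⟨P.asIdeal, P.2⟩ : {p : Ideal (LaurentPolynomial k) // p.IsPrime}) < ⟨Q.asIdeal, Q.2⟩ from h)

theorem isDomain_symmetricAlgebra : IsDomain (SymmetricAlgebra k k) :=
  ((SymmetricAlgebra.equivMvPolynomial (Module.Basis.singleton PUnit.{1} k)).trans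
    (MvPolynomial.uniqueAlgEquiv k PUnit.{1})).toRingEquiv.toMulEquiv.isDomain

theorem ringKrullDim_symmetricAlgebra : ringKrullDim (SymmetricAlgebra k k) = 1 := by
  rw [ringKrullDim_eq_of_ringEquiv ((SymmetricAlgebra.equivMvPolynomial (Module.Basis.singleton PUnit.{1} k)).trans
    (MvPolynomial.uniqueAlgEquiv k PUnit.{1})).toRingEquiv]
  exact IsPrincipalIdealRing.ringKrullDim_eq_one _ (Polynomial.not_isField k)

/-- The coordinate rings of `G_a` and `G_m`. -/
structure OneDim (k : Type u) [Field k] : Type (u + 1) where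
  /-- the ring -/
  B : Type u
  [cr : CommRing B]
  [ha : HopfAlgebra k B]
  finiteType : Algebra.FiniteType k B
  isDomain : IsDomain B
  dim : ringKrullDim B ≤ 1
  notField : ¬ IsField B
  iso : Nonempty (Grp.mk (sp k B) ≅ Grp.mk (Red.Ga (Spec (CommRingCat.of k)))) ∨
    Nonempty (Grp.mk (sp k B) ≅ Grp.mk (Red.Gm (Spec (CommRingCat.of k))))

attribute [instance] OneDim.cr OneDim.ha

/-- The one-dimensional group `G_a`. -/
def OneDim.ga : OneDim k where
  B := SymmetricAlgebra k k
  finiteType := Algebra.FiniteType.equiv (inferInstanceAs (Algebra.FiniteType k (Polynomial k)))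
    ((SymmetricAlgebra.equivMvPolynomial (Module.Basis.singleton PUnit.{1} k)).trans
      (MvPolynomial.uniqueAlgEquiv k PUnit.{1})).symm
  isDomain := isDomain_symmetricAlgebra
  dim := ringKrullDim_symmetricAlgebra.le
  notField := fun h => by
    have := ringKrullDim_eq_zero_of_isField h
    rw [ringKrullDim_symmetricAlgebra] at this
    exact one_ne_zero this
  iso := Or.inl (nonempty_Ga_iso k)

/-- The one-dimensional group `G_m`. -/
def OneDim.gm : OneDim k where
  B := MonoidAlgebra k (Multiplicative ℤ)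
  finiteType := inferInstance
  isDomain := inferInstance
  dim := ringKrullDim_laurent_le
  notField := UnipOne.not_isField_laurent
  iso := Or.inr (nonempty_DS_iso k ℤ)

variable [IsAlgClosed k]

/-- A trigonalizable connected Hopf algebra other than `k` receives an injection of the coordinate ring of `G_a` or `G_m`. -/
theorem exists_oneDim_hopf (A : Type u) [CommRing A] [HopfAlgebra k A] [Algebra.FiniteType k A] [IsDomain A]
    (hT : HopfRep.IsTrigonalizable k A) {b : A} (hb : b ∉ Submodule.span k {(1 : A)}) :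
    ∃ (D : OneDim k) (φ : D.B →ₐc[k] A), Function.Injective φ := by
  obtain ⟨M, _, r, ψ, hrψ, -, -, hdom, ⟨J, hJi, hJψ, hJU⟩, -⟩ := Borel.exists_torus_hopf A hT
  haveI := hJi
  have hψ : Function.Injective ψ := fun x y h => by rw [← hrψ x, ← hrψ y]; exact congrArg r h
  haveI := hdom
  by_cases hM : ∃ g : M, g ≠ 1
  · obtain ⟨g, hg⟩ := hM
    let θ : Multiplicative ℤ →* M := zpowersHom M g
    have hθ : Function.Injective θ := by
      rw [injective_iff_map_eq_one]
      intro n hn
      by_contra hne
      obtain ⟨N, hN, hgN⟩ : ∃ N : ℕ, 0 < N ∧ g ^ N = 1 := by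
        have hn' : g ^ n.toAdd = 1 := hn
        refine ⟨n.toAdd.natAbs, Int.natAbs_pos.mpr fun h => hne (Multiplicative.toAdd.injective h), ?_⟩
        rcases Int.natAbs_eq n.toAdd with h | h <;> rw [h] at hn' <;>
          simpa [zpow_neg] using hn'
      let x : MonoidAlgebra k M := MonoidAlgebra.single g 1
      have hx : IsIntegral k x := by
        refine ⟨Polynomial.X ^ N - 1, Polynomial.monic_X_pow_sub_C (1 : k) hN.ne', ?_⟩
        simp [x, MonoidAlgebra.single_pow, hgN, MonoidAlgebra.one_def]
      obtain ⟨c, hc⟩ := UnipOne.mem_range_of_isIntegral (k := k) hx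
      have h2 := congrArg (fun y : MonoidAlgebra k M => y.coeff g) hc
      simp [x, MonoidAlgebra.one_def, Algebra.algebraMap_eq_smul_one, Ne.symm hg] at h2
    refine ⟨OneDim.gm, ψ.comp (MonoidAlgebra.mapDomainBialgHom k θ), hψ.comp ?_⟩
    intro x y h
    exact MonoidAlgebra.mapDomain_injective hθ h
  · push Not at hM
    haveI : Subsingleton M := ⟨fun x y => (hM x).trans (hM y).symm⟩
    have hJ : J = ⊥ := by
      rw [hJψ, eq_bot_iff, Ideal.map_le_iff_le_comap]
      intro z hz
      obtain ⟨c, rfl⟩ : ∃ c, z = MonoidAlgebra.single (1 : M) c := by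
        clear hz
        induction z using MonoidAlgebra.induction_linear with
        | zero => exact ⟨0, by simp⟩
        | add p q hp hq =>
          obtain ⟨c, rfl⟩ := hp
          obtain ⟨d, rfl⟩ := hq
          exact ⟨c + d, (MonoidAlgebra.single_add _ _ _).symm⟩
        | single m c => exact ⟨c, by rw [hM m]⟩
      have h0 : c = 0 := by simpa using (RingHom.mem_ker.mp hz : Bialgebra.counitAlgHom k _ _ = 0)
      simp [h0]
    subst hJ
    let π : A →ₐc[k] A ⧸ (⊥ : Ideal A) := Bialgebra.Quotient.mkBialgHom ⊥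
    have hπ : Function.Bijective π := ⟨fun x y h => by
      have := Ideal.Quotient.eq.mp (h : Ideal.Quotient.mk ⊥ x = Ideal.Quotient.mk ⊥ y)
      exact sub_eq_zero.mp (Ideal.mem_bot.mp this), Ideal.Quotient.mk_surjective⟩
    let e := BialgEquiv.ofBijective π hπ
    have hb' : e b ∉ Submodule.span k {(1 : A ⧸ (⊥ : Ideal A))} := fun h => by
      obtain ⟨c, hc⟩ := Submodule.mem_span_singleton.mp h
      refine hb (Submodule.mem_span_singleton.mpr ⟨c, hπ.1 ?_⟩)
      rw [map_smul, map_one]
      exact hc
    obtain ⟨t, ht0, ht⟩ := UnipCrit.exists_primitive_of_isUnipotent hJU hb'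
    obtain ⟨s, rfl⟩ := hπ.2 t
    have hs : Coalgebra.comul (R := k) s = s ⊗ₜ[k] (1 : A) + (1 : A) ⊗ₜ[k] s := by
      let le := LinearEquiv.ofBijective (π : A →ₗ[k] A ⧸ (⊥ : Ideal A)) hπ
      apply (TensorProduct.congr le le).injective
      have h1 := CoalgHomClass.map_comp_comul_apply π s
      rw [ht] at h1
      have h2 : ∀ x, le x = π x := fun _ => rfl
      simp only [map_add, TensorProduct.congr_tmul, h2, map_one]
      exact h1
    exact ⟨OneDim.ga, UnipOne.toGa hs, UnipOne.toGa_injective hs fun h => ht0 (by rw [h, map_zero])⟩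

/-- A connected solvable affine group which is not trivial maps onto `G_a` or `G_m`. -/
theorem exists_oneDim_quot (S : Over (Spec (CommRingCat.of k))) [GrpObj S] [IsAffine S.left] [Smooth S.hom]
    [ConnectedSpace S.left] [Group.IsSolvable (Pt S)] (hS : ¬ Red.IsTrivialGrp S) :
    ∃ (D : OneDim k) (q : S ⟶ sp k D.B), IsMonHom q ∧ Flat q.left ∧ Surjective q.left := by
  haveI : IsAffineHom S.hom := isAffineHom_of_isAffine _
  obtain ⟨A, _, _, ⟨eS⟩⟩ := exists_hopf S
  let a : sp k A ≅ S := (Grp.forget _).mapIso eS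
  haveI : IsMonHom a.hom := eS.hom.hom.isMonHom_hom
  haveI : IsMonHom a.inv := eS.inv.hom.isMonHom_hom
  haveI : IsIso a.hom.left := ((Over.forget _).mapIso a).isIso_hom
  haveI : IsIso a.inv.left := ((Over.forget _).mapIso a).isIso_inv
  haveI : Algebra.FiniteType k A := RingHom.finiteType_algebraMap.mp
    ((HasRingHomProperty.Spec_iff (P := @LocallyOfFiniteType)).mp (by
      show LocallyOfFiniteType (sp k A).hom
      rw [← Over.w a.hom]; infer_instance))
  haveI : IsIntegral S.left := Agent.GrpSchLib.Kunneth.isIntegral_grp S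
  haveI : IsIntegral (Spec (CommRingCat.of A)) := by
    haveI : Nonempty ↥(Spec (CommRingCat.of A)) := ⟨a.inv.left (Classical.arbitrary _)⟩
    haveI : IsOpenImmersion a.hom.left :=
      @IsOpenImmersion.of_isIso _ _ _ ((Over.forget _).mapIso a).isIso_hom
    exact @isIntegral_of_isOpenImmersion _ _ a.hom.left this _ ‹_›
  haveI : IsDomain A := (affine_isIntegral_iff (CommRingCat.of A)).mp inferInstance
  let e1 : 𝟙_ (Over (Spec (CommRingCat.of k))) ≅ sp k k := Over.isoMk (Iso.refl _) (by
    show 𝟙 _ ≫ Spec.map (CommRingCat.ofHom (algebraMap k k)) = 𝟙 _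
    rw [Category.id_comp, Algebra.algebraMap_self]
    exact Spec.map_id _)
  let Φ : WithConv (A →ₐ[k] k) →* Pt S :=
    { toFun := fun u => e1.hom ≫ spMap u.ofConv ≫ a.hom
      map_one' := by
        rw [show spMap (1 : WithConv (A →ₐ[k] k)).ofConv = (1 : sp k k ⟶ sp k A) from map_one Spec.mapMulEquiv,
          MonObj.one_comp, MonObj.comp_one]
      map_mul' := fun u v => by
        rw [show spMap (u * v).ofConv = spMap u.ofConv * spMap v.ofConv from map_mul Spec.mapMulEquiv u v,
          MonObj.mul_comp, MonObj.comp_mul] }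
  haveI : Group.IsSolvable (WithConv (A →ₐ[k] k)) :=
    Group.isSolvable_of_isSolvable_injective (f := Φ) (fun u v h => by
      have h' : spMap u.ofConv = spMap v.ofConv := by
        rw [← cancel_mono a.hom, ← cancel_epi e1.hom]; exact h
      exact WithConv.ext (spMap_injective h'))
  have hT : HopfRep.IsTrigonalizable k A := S3266.result k A fun e he => by
    rcases IsIdempotentElem.iff_eq_zero_or_one.mp he with h | h
    · exact Or.inl h
    · exact Or.inr h
  obtain ⟨b, hb⟩ : ∃ b : A, b ∉ Submodule.span k {(1 : A)} := by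
    by_contra hc
    push Not at hc
    refine hS ?_
    have hbij : Function.Bijective (algebraMap k A) := ⟨(algebraMap k A).injective, fun x => by
      obtain ⟨c, hc⟩ := Submodule.mem_span_singleton.mp (hc x)
      exact ⟨c, by rw [Algebra.algebraMap_eq_smul_one, hc]⟩⟩
    haveI : IsIso (CommRingCat.ofHom (algebraMap k A)) := (ConcreteCategory.isIso_iff_bijective _).2 hbij
    haveI : IsIso (sp k A).hom := inferInstanceAs (IsIso (Spec.map (CommRingCat.ofHom (algebraMap k A))))
    show IsIso S.hom
    rw [← Over.w a.inv]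
    infer_instance
  obtain ⟨D, φ, hφ⟩ := exists_oneDim_hopf A hT hb
  haveI := D.finiteType
  have hff := S0607.result φ hφ
  haveI : Flat (Spec.map (CommRingCat.ofHom (φ : D.B →+* A))) := by
    rw [HasRingHomProperty.Spec_iff (P := @Flat)]; exact hff.flat
  haveI : Surjective (Spec.map (CommRingCat.ofHom (φ : D.B →+* A))) :=
    ⟨(RingHom.FaithfullyFlat.iff_flat_and_comap_surjective.mp hff).2⟩
  refine ⟨D, a.inv ≫ spMap (φ : D.B →ₐ[k] A), inferInstance, ?_, ?_⟩
  · show Flat (a.inv.left ≫ Spec.map (CommRingCat.ofHom (φ : D.B →+* A)))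
    exact MorphismProperty.comp_mem _ _ _ inferInstance ‹Flat (Spec.map (CommRingCat.ofHom (φ : D.B →+* A)))›
  · show Surjective (a.inv.left ≫ Spec.map (CommRingCat.ofHom (φ : D.B →+* A)))
    exact MorphismProperty.comp_mem _ _ _ inferInstance ‹Surjective (Spec.map (CommRingCat.ofHom (φ : D.B →+* A)))›

end

end Groth.Agent.Deform.SpecialGrp
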