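import Groth.Agent.Deform.SpecialGrp.Main
import Groth.Agent.Deform.SpecialGrp.Quot
import Groth.Agent.Deform.Borel.Cartan
import Groth.Agent.Deform.Borel.General
import Groth.Agent.Deform.Luna.Chevalley
import Groth.Agent.GrpSchLib.QuotAffine
import Groth.Agent.GrpSchLib.HomFinite

/-!
# Connected solvable groups over an algebraically closed field are special
-/

universe u

open CategoryTheory CategoryTheory.Limits MonoidalCategory CartesianMonoidalCategory MonObj GrpObj AlgebraicGeometry

attribute [local instance] CategoryTheory.Hom.monoid CategoryTheory.Hom.group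
set_option linter.style.haveILetI false
set_option linter.unusedSectionVars false
set_option maxHeartbeats 1000000

namespace Groth.Agent.Deform.SpecialGrp

open GrpSchLib.AffineHopf
open Chev (Pt pimg)

noncomputable section

variable {k : Type u} [Field k] [IsAlgClosed k]

/-- A connected smooth affine group finite over `G_a` or `G_m` is one of them. -/
theorem isGaGm_of_isogeny (Q : Over (Spec (CommRingCat.of k))) [GrpObj Q] [IsAffine Q.left] [Smooth Q.hom]
    [ConnectedSpace Q.left] (D : OneDim k) (π : Q ⟶ sp k D.B) [IsMonHom π] [IsFinite π.left] [Surjective π.left] :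
    IsGaGm Q := by
  haveI : IsAffineHom Q.hom := isAffineHom_of_isAffine _
  obtain ⟨A, _, _, ⟨eQ⟩⟩ := exists_hopf Q
  let a : sp k A ≅ Q := (Grp.forget _).mapIso eQ
  haveI : IsMonHom a.hom := eQ.hom.hom.isMonHom_hom
  haveI : IsIso a.hom.left := ((Over.forget _).mapIso a).isIso_hom
  haveI : Algebra.FiniteType k A := RingHom.finiteType_algebraMap.mp
    ((HasRingHomProperty.Spec_iff (P := @LocallyOfFiniteType)).mp (by
      show LocallyOfFiniteType (sp k A).hom
      rw [← Over.w a.hom]; infer_instance))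
  haveI : IsIntegral Q.left := GrpSchLib.Kunneth.isIntegral_grp Q
  haveI : IsIntegral (Spec (CommRingCat.of A)) := by
    haveI : Nonempty ↥(Spec (CommRingCat.of A)) := ⟨a.inv.left (Classical.arbitrary _)⟩
    haveI : IsOpenImmersion a.hom.left :=
      @IsOpenImmersion.of_isIso _ _ _ ((Over.forget _).mapIso a).isIso_hom
    exact @isIntegral_of_isOpenImmersion _ _ a.hom.left this _ ‹_›
  haveI : IsDomain A := (affine_isIntegral_iff (CommRingCat.of A)).mp inferInstance
  obtain ⟨f, hf⟩ := exists_bialgHom (a.hom ≫ π)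
  have hfin : (f : D.B →+* A).Finite := by
    have h : IsFinite (a.hom.left ≫ π.left) := MorphismProperty.comp_mem _ _ _ inferInstance ‹IsFinite π.left›
    rw [← Over.comp_left, hf] at h
    exact (IsFinite.SpecMap_iff (CommRingCat.ofHom (f : D.B →+* A))).mp h
  have hinj : Function.Injective f := by
    have hs : Surjective (a.hom.left ≫ π.left) := MorphismProperty.comp_mem _ _ _ inferInstance ‹Surjective π.left›
    rw [← Over.comp_left, hf] at hs
    haveI := D.isDomain
    rw [injective_iff_map_eq_zero]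
    intro b hb
    obtain ⟨⟨P, hP⟩, hP0⟩ := hs.surj (⟨⊥, Ideal.isPrime_bot⟩ : PrimeSpectrum D.B)
    have h1 : b ∈ Ideal.comap (f : D.B →+* A) P := by
      show f b ∈ P
      rw [hb]; exact P.zero_mem
    have h2 : Ideal.comap (f : D.B →+* A) P = ⊥ := congrArg PrimeSpectrum.asIdeal hP0
    rw [h2] at h1
    exact h1
  letI : Algebra D.B A := (f : D.B →+* A).toAlgebra
  haveI : Algebra.IsIntegral D.B A := ⟨RingHom.Finite.to_isIntegral hfin⟩
  haveI : FaithfulSMul D.B A := (faithfulSMul_iff_algebraMap_injective _ _).mpr hinj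
  have hdim : ringKrullDim A ≤ 1 := by
    rw [VarDim.ringKrullDim_eq_of_isIntegral (R := D.B)]; exact D.dim
  have hne : ¬ IsField A := fun h => D.notField (by
    haveI := D.isDomain
    exact isField_of_isIntegral_of_isField hinj h)
  rcases UnipOne.unipotent_or_gm' (k := k) (A := A) hdim with hU | ⟨⟨e⟩⟩
  · obtain ⟨e⟩ := UnipOne.nonempty_equiv_ga hdim hU hne
    obtain ⟨g⟩ := nonempty_Ga_iso k
    exact Or.inl ⟨eQ.symm.trans ((spIso e.symm).trans g)⟩
  · obtain ⟨g⟩ := nonempty_DS_iso k ℤ
    exact Or.inr ⟨eQ.symm.trans ((spIso e.symm).trans g)⟩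

/-- A connected solvable group which is not trivial has a connected kernel of a map onto `G_a` or `G_m`. -/
theorem exists_step (S : Over (Spec (CommRingCat.of k))) [GrpObj S] [IsAffine S.left] [Smooth S.hom]
    [ConnectedSpace S.left] [Group.IsSolvable (Pt S)] (hS : ¬ Red.IsTrivialGrp S) :
    ∃ (J : Over (Spec (CommRingCat.of k))) (_ : GrpObj J) (j : J ⟶ S) (Q : Over (Spec (CommRingCat.of k)))
      (_ : GrpObj Q) (q : S ⟶ Q), IsMonHom j ∧ IsClosedImmersion j.left ∧ Smooth J.hom ∧ ConnectedSpace J.left ∧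
      IsMonHom q ∧ Surjective q.left ∧ AlgGrp.IsKernel j q ∧ IsGaGm Q ∧ Set.range j.left ≠ Set.univ := by
  haveI : IsAffineHom S.hom := isAffineHom_of_isAffine _
  obtain ⟨D, q₀, hq₀, hq₀f, hq₀s⟩ := exists_oneDim_quot S hS
  haveI := hq₀; haveI := hq₀f; haveI := hq₀s
  haveI := D.finiteType
  haveI : LocallyOfFiniteType (sp k D.B).hom := by
    show LocallyOfFiniteType (Spec.map (CommRingCat.ofHom (algebraMap k D.B)))
    rw [HasRingHomProperty.Spec_iff (P := @LocallyOfFiniteType), CommRingCat.hom_ofHom, RingHom.finiteType_algebraMap]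
    infer_instance
  let H : Subgroup (Pt S) :=
    { carrier := {x | x ≫ q₀ = 1}
      one_mem' := MonObj.one_comp _
      mul_mem' := fun {x y} (hx : x ≫ q₀ = 1) (hy : y ≫ q₀ = 1) => by
        show (x * y) ≫ q₀ = 1
        rw [MonObj.mul_comp, hx, hy, _root_.one_mul]
      inv_mem' := fun {x} (hx : x ≫ q₀ = 1) => by
        show x⁻¹ ≫ q₀ = 1
        rw [GrpObj.inv_comp, hx, inv_one] }
  let C : Set S.left := q₀.left ⁻¹' {pimg (1 : Pt (sp k D.B))}
  have hC : IsClosed C := by
    refine IsClosed.preimage q₀.left.continuous ?_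
    exact (pointEquivClosedPoint (sp k D.B).hom ⟨(1 : Pt (sp k D.B)).left, Over.w _⟩).2
  have hCH : ∀ h : Pt S, pimg h ∈ C ↔ h ∈ H := fun h => by
    show q₀.left (pimg h) = pimg (1 : Pt (sp k D.B)) ↔ h ≫ q₀ = 1
    rw [← Chev.pimg_comp]
    exact ⟨fun e => Chev.pimg_injective e, fun e => congrArg pimg e⟩
  obtain ⟨J, iJ, j, hj, hjc, hJs, hJq, hJc, hJH, ⟨s, hs⟩, hlift⟩ := Borel.exists_neutral_fin H hC hCH
  haveI := hj; haveI := hjc; haveI := hJs; haveI := hJq; haveI := hJc
  haveI : Mono j := (Over.forget _).mono_of_mono_map (inferInstanceAs (Mono j.left))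
  haveI : IsSeparated (sp k D.B).hom := inferInstance
  have hjq : j ≫ q₀ = 1 := Chev.SemiAbExt.ext_points _ _ fun x => by
    rw [← Category.assoc, show (x ≫ j) ≫ q₀ = 1 from hJH x, MonObj.comp_one]
  have hn : AlgGrp.IsNormalHom j := by
    refine Luna.isNormalHom_of_pts j fun g x => ?_
    obtain ⟨f', -, hf'⟩ := hlift J (j ≫ Borel.conj g) (fun t => by
      show (t ≫ j ≫ Borel.conj g) ≫ q₀ = 1
      rw [← Category.assoc t, Borel.pt_conj, MonObj.mul_comp, MonObj.mul_comp, GrpObj.inv_comp,
        show (t ≫ j) ≫ q₀ = 1 from hJH t, _root_.mul_one, mul_inv_cancel])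
    exact ⟨x ≫ f', by rw [Category.assoc, hf', ← Category.assoc, Borel.pt_conj]⟩
  obtain ⟨Q, iQ, q, hq, hqf, hqs, hQl, hQq, hk⟩ := Chev.exists_quotient j hn
  haveI := hq; haveI := hqf; haveI := hqs; haveI := hQl; haveI := hQq
  haveI : IsAffine Q.left := GrpSchLib.isAffine_of_quotient q
  haveI : Smooth Q.hom := GrpSchLib.smooth_of_quotient q
  haveI : ConnectedSpace Q.left := q.left.surjective.connectedSpace q.left.continuous
  haveI : IsLocallyNoetherian Q.left := LocallyOfFiniteType.isLocallyNoetherian Q.hom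
  haveI : LocallyOfFiniteType (q.left ≫ Q.hom) := by rw [Over.w q]; infer_instance
  haveI : LocallyOfFiniteType q.left := locallyOfFiniteType_of_comp q.left Q.hom
  haveI : LocallyOfFinitePresentation q.left := inferInstance
  -- the isogeny
  obtain ⟨π, hπ⟩ := QuotDescent.exists_descOver q q₀ (fun T x y e => by
    obtain ⟨h, hh1, -⟩ := hk.exists_lift (x⁻¹ * y) (toUnit T) (by
      rw [MonObj.mul_comp, GrpObj.inv_comp, e, inv_mul_cancel, Hom.one_def])
    have hy : y = x * (h ≫ j) := by rw [hh1, mul_inv_cancel_left]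
    rw [hy, MonObj.mul_comp, Category.assoc, hjq, MonObj.comp_one, _root_.mul_one])
  haveI hπm : IsMonHom π := by
    refine WittEndoLib.isMonHom_of_mul _ fun T x y => ?_
    have hu : μ[Q] ≫ π = (fst Q Q ≫ π) * (snd Q Q ≫ π) := by
      haveI : Smooth (Q ⊗ Q).hom := inferInstanceAs (Smooth (pullback.fst Q.hom Q.hom ≫ Q.hom))
      refine Chev.SemiAbExt.ext_points _ _ fun z => ?_
      obtain ⟨a, ha⟩ := Borel.exists_pt_over q (z ≫ fst Q Q)
      obtain ⟨b, hb⟩ := Borel.exists_pt_over q (z ≫ snd Q Q)
      have hz : z ≫ μ[Q] = (a * b) ≫ q := by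
        rw [MonObj.mul_comp, ha, hb, Hom.mul_def, ← comp_lift_assoc, lift_fst_snd, Category.id_comp]
      rw [← Category.assoc, hz, Category.assoc, hπ, MonObj.mul_comp, MonObj.comp_mul, ← Category.assoc z,
        ← Category.assoc z, ← ha, ← hb, Category.assoc, Category.assoc, hπ]
    have h2 := congrArg (lift x y ≫ ·) hu
    simp only [MonObj.comp_mul, lift_fst_assoc, lift_snd_assoc] at h2
    rw [← h2, Hom.mul_def, Category.assoc]
  haveI : Surjective π.left := by
    haveI : Surjective (q.left ≫ π.left) := by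
      rw [← Over.comp_left, hπ]; exact hq₀s
    exact Surjective.of_comp q.left π.left
  haveI : QuasiCompact π.left := Chev.quasiCompact_of_grp π
  haveI : IsFinite π.left := by
    haveI := GrpSchLib.HomFinite.locallyQuasiFinite_of_finite_preimage π (by
      haveI : JacobsonSpace Q.left := LocallyOfFiniteType.jacobsonSpace Q.hom
      let F : Set Q.left := (fun r : Pt S => pimg (r ≫ q)) '' ↑s
      have hF : F.Finite := s.finite_toSet.image _
      have hFc : IsClosed F := by
        rw [← Set.biUnion_of_singleton F]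
        refine hF.isClosed_biUnion fun z hz => ?_
        obtain ⟨r, -, rfl⟩ := hz
        exact (pointEquivClosedPoint Q.hom ⟨(r ≫ q).left, Over.w _⟩).2
      refine hF.subset fun z hz => ?_
      by_contra hzF
      have hη : IsClosed ({η[sp k D.B].left (IsLocalRing.closedPoint k)} : Set (sp k D.B).left) :=
        (pointEquivClosedPoint (sp k D.B).hom ⟨(η[sp k D.B]).left, Over.w _⟩).2
      obtain ⟨w, ⟨hw1, hw2⟩, hwc⟩ := nonempty_inter_closedPoints
        (Z := π.left ⁻¹' {η[sp k D.B].left (IsLocalRing.closedPoint k)} \ F) ⟨z, hz, hzF⟩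
        ((hη.preimage π.left.continuous).isLocallyClosed.inter hFc.isOpen_compl.isLocallyClosed)
      obtain ⟨y, hy⟩ := Chev.exists_pt (G := Q) (S := {w}) ⟨w, rfl⟩ (IsClosed.isLocallyClosed hwc)
      obtain ⟨g, hg⟩ := Borel.exists_pt_over q y
      have hgH : g ∈ H := by
        show g ≫ q₀ = 1
        refine Chev.pimg_injective ?_
        rw [← hπ, reassoc_of% hg, Chev.pimg_comp, show pimg y = w from hy, show π.left w = _ from hw1]
        show _ = pimg (1 : Pt (sp k D.B))
        rw [show (1 : Pt (sp k D.B)) = η[sp k D.B] from by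
          rw [Hom.one_def, toUnit_unique (toUnit (𝟙_ _)) (𝟙 _), Category.id_comp]]
        rfl
      obtain ⟨r, hr, x, hx⟩ := hs g hgH
      refine hw2 ⟨r, hr, ?_⟩
      show pimg (r ≫ q) = w
      rw [← show pimg y = w from hy, ← hg, ← hx, MonObj.mul_comp, Category.assoc, show j ≫ q = 1 from by
        rw [hk.w, Hom.one_def], MonObj.comp_one, _root_.one_mul])
    exact GrpSchLib.HomFinite.isFinite_of_isAlgClosed π
  refine ⟨J, iJ, j, Q, iQ, q, hj, hjc, hJs, hJc, hq, hqs, hk, isGaGm_of_isogeny Q D π, fun huniv => ?_⟩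
  haveI := D.isDomain
  refine D.notField ?_
  have hsub : Subsingleton (PrimeSpectrum D.B) := by
    refine ⟨fun u v => ?_⟩
    have h1 : ∀ w : (sp k D.B).left, w = η[sp k D.B].left (IsLocalRing.closedPoint k) := fun w => by
      obtain ⟨z, rfl⟩ := q₀.left.surjective w
      obtain ⟨z', rfl⟩ : z ∈ Set.range j.left := huniv ▸ Set.mem_univ z
      rw [← Scheme.Hom.comp_apply, ← Over.comp_left, hjq, Hom.one_def, Over.comp_left, Scheme.Hom.comp_apply]
      congr 1
      exact Subsingleton.elim (α := PrimeSpectrum k) _ _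
    exact (h1 u).trans (h1 v).symm
  refine not_not.mp fun hf => ?_
  obtain ⟨m, hm, hmp⟩ := Ring.not_isField_iff_exists_prime.mp hf
  exact hm (congrArg PrimeSpectrum.asIdeal
    (hsub.elim (⟨m, hmp⟩ : PrimeSpectrum D.B) ⟨⊥, Ideal.isPrime_bot⟩))

/-- **Connected solvable groups are special.** -/
theorem special_of_solvable (S : Over (Spec (CommRingCat.of k))) [GrpObj S] [IsAffine S.left] [Smooth S.hom]
    [ConnectedSpace S.left] [Group.IsSolvable (Pt S)] : Special S := by
  haveI : IsAffineHom S.hom := isAffineHom_of_isAffine _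
  haveI : IsLocallyNoetherian S.left := LocallyOfFiniteType.isLocallyNoetherian S.hom
  haveI : CompactSpace S.left := inferInstance
  haveI : AlgebraicGeometry.IsNoetherian S.left := {}
  haveI : TopologicalSpace.NoetherianSpace S.left := inferInstance
  suffices h : ∀ (C : TopologicalSpace.Closeds S.left) (H : Over (Spec (CommRingCat.of k))) [GrpObj H] (i : H ⟶ S)
      [IsMonHom i] [IsClosedImmersion i.left] [Smooth H.hom] [ConnectedSpace H.left],
      Set.range i.left = (C : Set S.left) → Special H by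
    haveI : IsClosedImmersion (𝟙 S : S ⟶ S).left := inferInstanceAs (IsClosedImmersion (𝟙 S.left))
    exact h ⊤ S (𝟙 S) (Set.range_eq_univ.mpr fun x => ⟨x, rfl⟩)
  intro C
  induction C using WellFoundedLT.induction with
  | ind C ih =>
    intro H _ i _ _ _ _ hr
    haveI : IsAffine H.left := isAffine_of_isAffineHom i.left
    haveI : Mono i := (Over.forget _).mono_of_mono_map (inferInstanceAs (Mono i.left))
    haveI : Group.IsSolvable (Pt H) := Group.isSolvable_of_isSolvable_injective
      (f := ({ toFun := fun x => x ≫ i, map_one' := MonObj.one_comp _,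
               map_mul' := fun a b => MonObj.mul_comp _ _ _ } : Pt H →* Pt S))
      fun a b h => (cancel_mono i).mp h
    by_cases hH : Red.IsTrivialGrp H
    · exact special_of_trivial H hH
    obtain ⟨J, iJ, j, Q, iQ, q, hj, hjc, hJs, hJc, hq, hqs, hk, hQ, hne⟩ := exists_step H hH
    haveI := hj; haveI := hjc; haveI := hJs; haveI := hJc; haveI := hq; haveI := hqs
    haveI : IsClosedImmersion (j ≫ i).left := inferInstanceAs (IsClosedImmersion (j.left ≫ i.left))
    refine special_step j q hk hQ (ih ⟨Set.range (j ≫ i).left, (j ≫ i).left.isClosedEmbedding.isClosed_range⟩ ?_ J (j ≫ i) rfl)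
    refine lt_of_le_of_ne ?_ fun e => hne ?_
    · show Set.range (j ≫ i).left ⊆ (C : Set S.left)
      rw [← hr]
      rintro _ ⟨z, rfl⟩
      exact ⟨j.left z, rfl⟩
    · refine Set.eq_univ_of_forall fun z => ?_
      have e' : Set.range (j ≫ i).left = (C : Set S.left) := congrArg SetLike.coe e
      obtain ⟨w, hw⟩ : i.left z ∈ Set.range (j ≫ i).left := by rw [e', ← hr]; exact ⟨z, rfl⟩
      exact ⟨w, i.left.isClosedEmbedding.injective hw⟩

end

end Groth.Agent.Deform.SpecialGrp
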