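import Groth.Agent.UnipOne.Ga
import Groth.Agent.GrpSchLib.AffineHopf
import Groth.Prelude.Def_Red2

/-!
# The additive group over a ring as the spectrum of the symmetric algebra
-/

universe u

open TensorProduct CategoryTheory AlgebraicGeometry

namespace Groth.Agent.Deform.SpecialGrp

attribute [-instance] ULift.module ULift.module'

/-- The bialgebra map given by a primitive element. -/
theorem exists_primHom {k : Type u} [CommRing k] {A : Type u} [CommRing A] [Bialgebra k A] {t : A}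
    (h0 : Bialgebra.counitAlgHom k A t = 0)
    (ht : Coalgebra.comul (R := k) t = t ⊗ₜ[k] (1 : A) + (1 : A) ⊗ₜ[k] t) :
    ∃ φ : SymmetricAlgebra k k →ₐc[k] A,
      ⇑φ = ⇑(SymmetricAlgebra.lift (LinearMap.toSpanSingleton k A t)) :=
  ⟨BialgHom.ofAlgHom (SymmetricAlgebra.lift (LinearMap.toSpanSingleton k A t))
    (SymmetricAlgebra.algHom_ext (LinearMap.ext_ring (by simpa [SymmetricAlgebra.algebraMapInv_ι] using h0)))
    (SymmetricAlgebra.algHom_ext (LinearMap.ext_ring (by simp [ht]))), rfl⟩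

/-- The base change of the symmetric algebra of a line is the symmetric algebra, as bialgebras. -/
theorem nonempty_sym_bialgEquiv (R k : Type u) [CommRing R] [CommRing k] [Algebra R k] :
    Nonempty (SymmetricAlgebra k k ≃ₐc[k] k ⊗[R] SymmetricAlgebra R R) := by
  let t : k ⊗[R] SymmetricAlgebra R R := (1 : k) ⊗ₜ SymmetricAlgebra.ι R R 1
  have ht : Coalgebra.comul (R := k) t = t ⊗ₜ[k] (1 : k ⊗[R] SymmetricAlgebra R R) + (1 : k ⊗[R] SymmetricAlgebra R R) ⊗ₜ[k] t := by
    simp [t, Algebra.TensorProduct.one_def, tmul_add, add_tmul]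
  have hc : Bialgebra.counitAlgHom k (k ⊗[R] SymmetricAlgebra R R) t = 0 := by
    simp [t, SymmetricAlgebra.algebraMapInv_ι]
  obtain ⟨φ, hφ⟩ := exists_primHom hc ht
  let f : SymmetricAlgebra k k →ₐ[k] k ⊗[R] SymmetricAlgebra R R :=
    SymmetricAlgebra.lift (LinearMap.toSpanSingleton k _ t)
  let g₀ : SymmetricAlgebra R R →ₐ[R] SymmetricAlgebra k k :=
    SymmetricAlgebra.lift (LinearMap.toSpanSingleton R _ (SymmetricAlgebra.ι k k 1))
  let g : k ⊗[R] SymmetricAlgebra R R →ₐ[k] SymmetricAlgebra k k :=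
    Algebra.TensorProduct.lift (Algebra.ofId k _) g₀ fun _ _ => Commute.all _ _
  have h1 : f.comp g = AlgHom.id k _ := by
    refine Algebra.TensorProduct.ext (Subsingleton.elim _ _) ?_
    refine SymmetricAlgebra.algHom_ext (LinearMap.ext_ring ?_)
    simp [f, g, g₀, t]
  have h2 : g.comp f = AlgHom.id k _ := by
    refine SymmetricAlgebra.algHom_ext (LinearMap.ext_ring ?_)
    simp [f, g, g₀, t]
  have hb : Function.Bijective φ := hφ ▸ (AlgEquiv.ofAlgHom f g h1 h2).bijective
  exact ⟨BialgEquiv.ofBijective φ hb⟩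

/-- The additive group over a ring as the spectrum of the symmetric algebra. -/
theorem nonempty_Ga_iso (k : Type u) [CommRing k] :
    Nonempty (Grp.mk (GrpSchLib.AffineHopf.sp k (SymmetricAlgebra k k)) ≅ Grp.mk (Red.Ga (Spec (CommRingCat.of k)))) := by
  let R := ULift.{u} ℤ
  let : Algebra R k := ((algebraMap ℤ k).comp (ULift.ringEquiv.toRingHom)).toAlgebra
  obtain ⟨e1⟩ := GrpSchLib.AffineHopf.nonempty_bc_iso (Limits.IsTerminal.from specULiftZIsTerminal (Spec (CommRingCat.of k)))
    (Spec.map (CommRingCat.ofHom (algebraMap R k))) (specULiftZIsTerminal.hom_ext _ _) Red.GaZ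
  obtain ⟨e2⟩ := GrpSchLib.AffineHopf.nonempty_bc_sp (R := R) k (SymmetricAlgebra R R)
  obtain ⟨e3⟩ := nonempty_sym_bialgEquiv R k
  exact ⟨(e1.trans (e2.trans (GrpSchLib.AffineHopf.spIso e3))).symm⟩

end Groth.Agent.Deform.SpecialGrp
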