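import Groth.Agent.Deform.SpecialGrp.Bundle
import Groth.Agent.Deform.SpecialGrp.Solvable
import Groth.Agent.Deform.AntiAffineParts
import Groth.Agent.Deform.Borel.QuotFixed
import Groth.Agent.Deform.Borel.CartanNorm
import Groth.Agent.GrpSchLib.ImageFactor
import Groth.Agent.GrpSchLib.AntiAffineHom

/-!
# The quotient by the affine part has sections locally
-/

set_option autoImplicit false
set_option linter.style.haveILetI false
set_option linter.unusedSectionVars false
set_option maxHeartbeats 1000000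

universe u

open CategoryTheory CategoryTheory.Limits MonoidalCategory CartesianMonoidalCategory MonObj GrpObj AlgebraicGeometry

attribute [local instance] CategoryTheory.Hom.monoid CategoryTheory.Hom.group

noncomputable section

namespace Groth.Agent.Deform.SpecialGrp

open GrpSchLib.ImageFactor (exists_image)
open Chev (Pt pimg)

variable {k : Type u} [Field k] [IsAlgClosed k]

/-- A pair of commuting homomorphisms multiplies to a homomorphism. -/
theorem isMonHom_mulPair {S : Scheme.{u}} {K B G : Over S} [GrpObj K] [GrpObj B] [GrpObj G]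
    (a : K ⟶ G) [IsMonHom a] (b : B ⟶ G) [IsMonHom b]
    (hc : ∀ (T : Over S) (x : T ⟶ K) (y : T ⟶ G), (x ≫ a) * y = y * (x ≫ a)) :
    IsMonHom ((fst K B ≫ a) * (snd K B ≫ b)) where
  one_hom := by
    simp [MonObj.one_eq_one, MonObj.comp_mul, ← Category.assoc, MonObj.one_comp]
  mul_hom := by
    have key : ∀ {M : Type u} [Group M] (p q r s : M), q * r = r * q → p * q * (r * s) = p * r * (q * s) := fun p q r s h => by
      rw [_root_.mul_assoc, ← _root_.mul_assoc q, h, _root_.mul_assoc r, ← _root_.mul_assoc p]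
    have h2 : ∀ {T : Over S} (x y : T ⟶ K ⊗ B), (x * y) ≫ ((fst K B ≫ a) * (snd K B ≫ b)) =
        (x ≫ ((fst K B ≫ a) * (snd K B ≫ b))) * (y ≫ ((fst K B ≫ a) * (snd K B ≫ b))) := fun {T} x y => by
      simp only [MonObj.comp_mul, ← Category.assoc, MonObj.mul_comp]
      exact key _ _ _ _ (hc _ _ _)
    rw [MonObj.mul_eq_mul (K ⊗ B), h2, Hom.mul_def]
    congr 1

set_option maxHeartbeats 4000000 in
/-- A principal bundle under a Borel subgroup of the affine part, inside the group. -/
theorem exists_reduction (G : Over (Spec (CommRingCat.of k))) [GrpObj G] [Smooth G.hom] [QuasiCompact G.hom]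
    [ConnectedSpace ↥G.left] (N : Over (Spec (CommRingCat.of k))) [GrpObj N] (i : N ⟶ G) [IsMonHom i]
    [IsClosedImmersion i.left] [Smooth N.hom] [ConnectedSpace ↥N.left] [IsAffine N.left]
    (A : Over (Spec (CommRingCat.of k))) [GrpObj A] [IsProper A.hom] (α : G ⟶ A) [IsMonHom α]
    [Surjective α.left] (hker : AlgGrp.IsKernel i α) :
    ∃ (B G' : Over (Spec (CommRingCat.of k))) (_ : GrpObj B) (_ : GrpObj G') (iB : B ⟶ G') (j : G' ⟶ G),
      IsMonHom iB ∧ IsMonHom j ∧ LocallyOfFiniteType G'.hom ∧ Surjective (j ≫ α).left ∧ Special B ∧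
      AlgGrp.IsKernel iB (j ≫ α) := by
  haveI := GrpSchLib.AntiAffine.isSeparated_grp G
  haveI : LocallyOfFiniteType G.hom := inferInstance
  obtain ⟨K, iK, κ, hκ, hκc, hKl, hKq, hKb, I, iI, p₀, hp, hI, hIl, hpf, hps, hkI⟩ := AntiAffineParts.exists_ant G
  haveI := hκ; haveI := hκc; haveI := hKl; haveI := hKq; haveI := hp; haveI := hI; haveI := hIl
  haveI := hpf; haveI := hps
  haveI : ConnectedSpace ↥A.left := α.left.surjective.connectedSpace α.left.continuous
  haveI hκα := AntiAffineParts.surjective_proper hKb κ p₀ hkI α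
  have hcomm : ∀ (T : Over (Spec (CommRingCat.of k))) (x : T ⟶ K) (y : T ⟶ G), (x ≫ κ) * y = y * (x ≫ κ) :=
    fun T x y => GrpSchLib.AntiAffine.commute hKb κ (by rw [IsMonHom.one_hom, MonObj.one_eq_one]) x y
  obtain ⟨B, gB, iB, hB, -, -⟩ := Borel.exists_borel N
  obtain ⟨hbm, hbc, hBs, hBcn, hBsol, -⟩ := id hB
  haveI := hbm; haveI := hbc; haveI := hBs; haveI := hBcn
  haveI : IsAffine B.left := isAffine_of_isAffineHom iB.left
  haveI : IsAffineHom B.hom := isAffineHom_of_isAffine _
  haveI : Group.IsSolvable (Pt B) := Borel.isSolvable_pts_of_grp hBsol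
  haveI : Mono i := (Over.forget _).mono_of_mono_map (inferInstanceAs (Mono i.left))
  -- the anti-affine part meets the affine part inside the Borel subgroup
  have hmeet : ∀ (T : Over (Spec (CommRingCat.of k))) (x : T ⟶ K) (z : T ⟶ N), x ≫ κ = z ≫ i →
      ∃ b : T ⟶ B, b ≫ iB = z := by
    intro T x z e
    let Z : Over (Spec (CommRingCat.of k)) := Over.mk (pullback.fst κ.left i.left ≫ K.hom)
    let z₁ : Z ⟶ K := Over.homMk (pullback.fst κ.left i.left) rfl
    let z₂ : Z ⟶ N := Over.homMk (pullback.snd κ.left i.left) (by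
      show _ = pullback.fst κ.left i.left ≫ K.hom
      rw [← Over.w κ, pullback.condition_assoc, Over.w i])
    have sq : IsPullback z₁ z₂ κ i :=
      IsPullback.of_map (Over.forget _) (Over.OverMorphism.ext pullback.condition)
        (IsPullback.of_hasPullback κ.left i.left)
    haveI : LocallyOfFiniteType Z.hom := inferInstanceAs (LocallyOfFiniteType (pullback.fst κ.left i.left ≫ K.hom))
    have hcen : ∀ (X' : Over (Spec (CommRingCat.of k))) (w : X' ⟶ Z) (h : X' ⟶ N),
        (w ≫ z₂) * h = h * (w ≫ z₂) := by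
      intro X' w h
      rw [← cancel_mono i, MonObj.mul_comp, MonObj.mul_comp, Category.assoc, ← sq.w, ← Category.assoc]
      exact hcomm _ _ _
    obtain ⟨f, hf⟩ := Borel.lift_of_normalizing N hB z₂
      (fun X' w h => ⟨h, by rw [hcen, mul_inv_cancel_right]⟩)
      (fun X' w h => ⟨h, by rw [_root_.mul_assoc, ← hcen, inv_mul_cancel_left]⟩)
    exact ⟨sq.lift x z e ≫ f, by rw [Category.assoc, hf, sq.lift_snd]⟩
  haveI : IsMonHom (iB ≫ i) := inferInstance
  let m : K ⊗ B ⟶ G := (fst K B ≫ κ) * (snd K B ≫ iB ≫ i)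
  haveI : IsMonHom m := isMonHom_mulPair κ (iB ≫ i) hcomm
  haveI : LocallyOfFiniteType (K ⊗ B).hom :=
    inferInstanceAs (LocallyOfFiniteType (pullback.fst K.hom B.hom ≫ K.hom))
  haveI : QuasiCompact (K ⊗ B).hom := inferInstanceAs (QuasiCompact (pullback.fst K.hom B.hom ≫ K.hom))
  obtain ⟨G', iG', p, j, hp', hj, hpj, hjc, hpfl, hpsu, hG'l, hG'q⟩ := exists_image m
  haveI := hp'; haveI := hj; haveI := hjc; haveI := hpfl; haveI := hpsu; haveI := hG'l; haveI := hG'q
  haveI : QuasiCompact p.left := by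
    haveI := GrpSchLib.AntiAffine.isSeparated_grp G'
    haveI : QuasiCompact (p.left ≫ G'.hom) := by rw [Over.w p]; infer_instance
    exact QuasiCompact.of_comp p.left G'.hom
  haveI : Mono j := (Over.forget _).mono_of_mono_map (inferInstanceAs (Mono j.left))
  let c : B ⟶ G' := lift 1 (𝟙 B) ≫ p
  have hc : c ≫ j = iB ≫ i := by
    simp only [c, Category.assoc, hpj, m, MonObj.comp_mul, lift_fst_assoc, lift_snd_assoc, MonObj.one_comp,
      _root_.one_mul, Category.id_comp]
  haveI : IsMonHom c := Deform.isMonHom_of_comp c j (i := iB ≫ i) hc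
  haveI : IsClosedImmersion c.left := by
    haveI : IsClosedImmersion (c.left ≫ j.left) := by
      rw [← Over.comp_left, hc, Over.comp_left]; infer_instance
    exact IsClosedImmersion.of_comp c.left j.left
  haveI : Mono c := (Over.forget _).mono_of_mono_map (inferInstanceAs (Mono c.left))
  refine ⟨B, G', gB, iG', c, j, inferInstance, hj, hG'l, ?_, special_of_solvable B, ?_⟩
  · have h1 : (lift (𝟙 K) 1 ≫ p) ≫ j ≫ α = κ ≫ α := by
      rw [← Category.assoc (lift (𝟙 K) 1 ≫ p), Category.assoc _ p, hpj]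
      simp only [m, MonObj.comp_mul, lift_fst_assoc, lift_snd_assoc, MonObj.one_comp, Category.id_comp,
        _root_.mul_one]
    haveI : Surjective ((lift (𝟙 K) 1 ≫ p).left ≫ (j ≫ α).left) := by
      rw [← Over.comp_left, h1]; exact hκα
    exact Surjective.of_comp (lift (𝟙 K) 1 ≫ p).left (j ≫ α).left
  have hw : c ≫ j ≫ α = toUnit B ≫ η[A] := by
    rw [reassoc_of% hc, hker.w, ← Category.assoc, toUnit_unique (iB ≫ toUnit N) (toUnit B)]
  have key : ∀ {T : Over (Spec (CommRingCat.of k))} (g : T ⟶ G') (u : T ⟶ 𝟙_ _), g ≫ j ≫ α = u ≫ η[A] →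
      ∃ b : T ⟶ B, b ≫ c = g := by
    intro T g u e
    let T' : Over (Spec (CommRingCat.of k)) := Over.mk (pullback.fst g.left p.left ≫ T.hom)
    let π : T' ⟶ T := Over.homMk (pullback.fst g.left p.left) rfl
    let q : T' ⟶ K ⊗ B := Over.homMk (pullback.snd g.left p.left) (by
      show _ = pullback.fst g.left p.left ≫ T.hom
      rw [← Over.w g, pullback.condition_assoc, Over.w p])
    have hq : q ≫ p = π ≫ g := Over.OverMorphism.ext pullback.condition.symm
    haveI : Flat π.left := inferInstanceAs (Flat (pullback.fst g.left p.left))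
    haveI : Surjective π.left := inferInstanceAs (Surjective (pullback.fst g.left p.left))
    haveI : QuasiCompact π.left := inferInstanceAs (QuasiCompact (pullback.fst g.left p.left))
    have h1 : π ≫ g ≫ j = ((q ≫ fst K B) ≫ κ) * ((q ≫ snd K B) ≫ iB ≫ i) := by
      rw [← Category.assoc, ← hq, Category.assoc, hpj]
      simp only [m, MonObj.comp_mul, Category.assoc]
    have hbi : ∀ (b : T' ⟶ B), (b ≫ iB ≫ i) ≫ α = 1 := fun b => by
      rw [Category.assoc, Category.assoc, hker.w, ← Category.assoc, ← Category.assoc, Hom.one_def,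
        toUnit_unique ((b ≫ iB) ≫ toUnit N) (toUnit T')]
    have h2 : ((q ≫ fst K B) ≫ κ) ≫ α = toUnit T' ≫ η[A] := by
      have := congrArg (· ≫ α) h1
      simp only [MonObj.mul_comp, hbi, _root_.mul_one] at this
      rw [← this, Category.assoc, Category.assoc, e, ← Category.assoc, toUnit_unique (π ≫ u) (toUnit T')]
    obtain ⟨z, hz, -⟩ := hker.exists_lift _ _ h2
    obtain ⟨b', hb'⟩ := hmeet _ _ z hz.symm
    refine Borel.exists_lift_of_cover π g c (b' * (q ≫ snd K B)) ?_
    rw [← cancel_mono j, Category.assoc, hc, Category.assoc, h1, MonObj.mul_comp, reassoc_of% hb', hz]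
  exact ⟨⟨hw⟩, ⟨PullbackCone.IsLimit.mk hw (fun s => (key s.fst s.snd s.condition).choose)
    (fun s => (key s.fst s.snd s.condition).choose_spec) (fun s => toUnit_unique _ _)
    (fun s m' h1 _ => by rw [← cancel_mono c, h1, (key s.fst s.snd s.condition).choose_spec])⟩⟩

end Groth.Agent.Deform.SpecialGrp
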