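import Groth.Agent.Tors9.GaGm
import Groth.Agent.DSPtsLib.Basic

/-!
# Torsors over fields under successive extensions of additive and multiplicative groups
-/

set_option autoImplicit false
set_option linter.style.haveILetI false
set_option linter.unusedSectionVars false
set_option backward.isDefEq.respectTransparency.types false
set_option maxHeartbeats 1000000

universe u

open CategoryTheory CategoryTheory.Limits MonoidalCategory CartesianMonoidalCategory MonObj GrpObj AlgebraicGeometry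
open scoped TensorProduct

attribute [local instance] CategoryTheory.Hom.monoid CategoryTheory.Hom.group

noncomputable section

namespace Groth.Agent.Deform.SpecialGrp

open Tors9

variable {S : Scheme.{u}}

/-- Cocycles with values in `Q` of the field extensions of the point `j` are coboundaries. -/
def QTriv {K : Type u} [Field K] (j : Spec (CommRingCat.of K) ⟶ S) (Q : Over S) [GrpObj Q] : Prop :=
  ∀ (F : Type u) [Field F] [Algebra K F] (d : P j (F ⊗[K] F) ⟶ Q),
    Pmap j (e₁₃ K F) ≫ d = (Pmap j (e₁₂ K F) ≫ d) * (Pmap j (e₂₃ K F) ≫ d) →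
      ∃ f : P j F ⟶ Q, d = (Pmap j (iL K F) ≫ f) * (Pmap j (iR K F) ≫ f)⁻¹

theorem qTriv_Ga {K : Type u} [Field K] (j : Spec (CommRingCat.of K) ⟶ S) : QTriv j (Red.Ga S) := by
  intro F _ _ d hd
  have h := congrArg (valA j) hd
  rw [valA_mul, valA_comp, valA_comp, valA_comp] at h
  obtain ⟨c, hc⟩ := add_coboundary _ h
  obtain ⟨f, hf⟩ := exists_valA j c
  refine ⟨f, valA_inj j ?_⟩
  rw [valA_mul, valA_inv, valA_comp, valA_comp, hf, hc, sub_eq_add_neg]

theorem qTriv_Gm {K : Type u} [Field K] (j : Spec (CommRingCat.of K) ⟶ S) : QTriv j (Red.Gm S) := by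
  intro F _ _ d hd
  let τ : (F ⊗[K] F)ˣ := valM j d
  have h : e₁₃ K F τ = e₁₂ K F τ * e₂₃ K F τ := by
    have h := congrArg (fun g => (valM j g : F ⊗[K] (F ⊗[K] F))) hd
    simp only [valM_mul, Units.val_mul, valM_comp] at h
    exact h
  obtain ⟨b, hb, hb0⟩ : ∃ b ∈ line (τ : F ⊗[K] F), b ≠ 0 := by
    by_contra hc
    push Not at hc
    have h0 : Ideal.span (line (τ : F ⊗[K] F)) = ⊥ := Ideal.span_eq_bot.mpr hc
    rw [span_line_eq_top τ h] at h0
    exact top_ne_bot h0
  obtain ⟨f, hf⟩ := exists_valM j (Units.mk0 b hb0)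
  refine ⟨f, valM_inj j (mul_right_cancel (b := valM j (Pmap j (iR K F) ≫ f)) ?_)⟩
  rw [← valM_mul j (_ * _), inv_mul_cancel_right]
  refine Units.ext ?_
  rw [Units.val_mul, valM_comp, valM_comp, hf]
  exact hb.symm

theorem qTriv_of_hom {K : Type u} [Field K] (j : Spec (CommRingCat.of K) ⟶ S) {Q Q' : Over S} [GrpObj Q] [GrpObj Q']
    (e : Q ≅ Q') [IsMonHom e.hom] (h : QTriv j Q') : QTriv j Q := by
  intro F _ _ d hd
  obtain ⟨f, hf⟩ := h F (d ≫ e.hom) (by rw [← Category.assoc, hd, MonObj.mul_comp, Category.assoc, Category.assoc])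
  refine ⟨f ≫ e.inv, ?_⟩
  rw [← cancel_mono e.hom, MonObj.mul_comp, GrpObj.inv_comp]
  simp only [Category.assoc, Iso.inv_hom_id, Category.comp_id]
  exact hf

theorem qTriv_bc {Y : Scheme.{u}} (π : Y ⟶ S) {K : Type u} [Field K] (j : Spec (CommRingCat.of K) ⟶ Y) {Q : Over S}
    [GrpObj Q] (h : QTriv (j ≫ π) Q) : QTriv j (Red.bc π Q) := by
  intro F _ _ d hd
  let ω : ∀ (C : Type u) [CommRing C] [Algebra K C],
      P (j ≫ π) C ≅ (Over.map π).obj (P j C) := fun C _ _ =>
    Over.isoMk (Iso.refl _) (by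
      refine (Category.id_comp _).trans ?_
      exact Category.assoc _ _ _)
  have hω : ∀ {C C' : Type u} [CommRing C] [Algebra K C] [CommRing C'] [Algebra K C'] (χ : C →ₐ[K] C'),
      (ω C').hom ≫ (Over.map π).map (Pmap j χ) = Pmap (j ≫ π) χ ≫ (ω C).hom := fun χ =>
    Over.OverMorphism.ext ((Category.id_comp _).trans (Category.comp_id _).symm)
  let val : ∀ {C : Type u} [CommRing C] [Algebra K C],
      (P j C ⟶ Red.bc π Q) → (P (j ≫ π) C ⟶ Q) := fun {C} _ _ g =>
    (ω C).hom ≫ DSPtsLib.theta π g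
  have hval : ∀ {C C' : Type u} [CommRing C] [Algebra K C] [CommRing C'] [Algebra K C'] (χ : C →ₐ[K] C')
      (g : P j C ⟶ Red.bc π Q), val (Pmap j χ ≫ g) = Pmap (j ≫ π) χ ≫ val g := fun χ g => by
    simp only [val]
    rw [DSPtsLib.theta_comp, reassoc_of% hω χ]
  have hmul : ∀ {C : Type u} [CommRing C] [Algebra K C] (g g' : P j C ⟶ Red.bc π Q),
      val (g * g') = val g * val g' := fun g g' => by
    simp only [val]
    rw [DSPtsLib.theta_mul, MonObj.comp_mul]
  have hinj : ∀ {C : Type u} [CommRing C] [Algebra K C],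
      Function.Bijective (val : (P j C ⟶ Red.bc π Q) → _) := fun {C} _ _ =>
    ⟨fun a b e => (DSPtsLib.theta_bijective π).1 ((cancel_epi (ω C).hom).1 e), fun t => by
      obtain ⟨a, ha⟩ := (DSPtsLib.theta_bijective π (Y := P j C) (H := Q)).2 ((ω C).inv ≫ t)
      exact ⟨a, by simp [val, ha]⟩⟩
  obtain ⟨f, hf⟩ := h F (val d) (by
    rw [← hval, ← hval, ← hval, hd, hmul])
  obtain ⟨f', rfl⟩ := hinj.2 f
  refine ⟨f', hinj.1 (mul_right_cancel (b := val (Pmap j (iR K F) ≫ f')) ?_)⟩
  rw [← hmul (_ * _), inv_mul_cancel_right, hval, hval, hf, inv_mul_cancel_right]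

/-- Descent of morphisms along an fpqc surjection over the base. -/
theorem exists_descQC {A B C : Over S} (π : A ⟶ B) [Flat π.left] [Surjective π.left]
    [QuasiCompact π.left] (φ : A ⟶ C)
    (h : ∀ (T : Over S) (x y : T ⟶ A), x ≫ π = y ≫ π → x ≫ φ = y ≫ φ) : ∃ ψ : B ⟶ C, π ≫ ψ = φ := by
  have h' : ∀ {T : Scheme.{u}} (x y : T ⟶ A.left), x ≫ π.left = y ≫ π.left → x ≫ φ.left = y ≫ φ.left := by
    intro T x y e
    have hw : y ≫ A.hom = x ≫ A.hom := by rw [← Over.w π, reassoc_of% e]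
    exact congrArg CommaMorphism.left (h (Over.mk (x ≫ A.hom)) (Over.homMk x rfl) (Over.homMk y hw)
      (Over.OverMorphism.ext e))
  refine ⟨Over.homMk (EffectiveEpi.desc π.left φ.left h') ?_, Over.OverMorphism.ext (EffectiveEpi.fac π.left φ.left h')⟩
  rw [← cancel_epi π.left, ← Category.assoc, EffectiveEpi.fac π.left φ.left h', Over.w φ, Over.w π]

section Field

variable {K : Type u} [Field K]

/-- The base point. -/
local notation "j₀" => 𝟙 (Spec (CommRingCat.of K))

theorem fpqc_fst (F : Type u) [Field F] [Algebra K F] (T : Over (Spec (CommRingCat.of K))) :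
    Flat (fst T (P j₀ F)).left ∧ Surjective (fst T (P j₀ F)).left ∧ QuasiCompact (fst T (P j₀ F)).left ∧
      Epi (fst T (P j₀ F)) := by
  let p : Spec (CommRingCat.of F) ⟶ Spec (CommRingCat.of K) :=
    Spec.map (CommRingCat.ofHom (algebraMap K F)) ≫ j₀
  haveI : Flat (Spec.map (CommRingCat.ofHom (algebraMap K F))) := by
    rw [HasRingHomProperty.Spec_iff (P := @Flat)]
    exact RingHom.flat_algebraMap_iff.mpr inferInstance
  haveI : Flat p := inferInstance
  haveI : Surjective p := ⟨Function.surjective_to_subsingleton (α := Spec (CommRingCat.of F))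
    (β := PrimeSpectrum K) _⟩
  haveI : QuasiCompact p := inferInstance
  haveI h1 : Flat (fst T (P j₀ F)).left := inferInstanceAs (Flat (pullback.fst T.hom p))
  haveI h2 : Surjective (fst T (P j₀ F)).left := inferInstanceAs (Surjective (pullback.fst T.hom p))
  haveI h3 : QuasiCompact (fst T (P j₀ F)).left := inferInstanceAs (QuasiCompact (pullback.fst T.hom p))
  haveI : Epi (fst T (P j₀ F)).left := inferInstance
  exact ⟨h1, h2, h3, (Over.forget _).epi_of_epi_map (inferInstanceAs (Epi (fst T (P j₀ F)).left))⟩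

/-- Two points over an extension agreeing on the base come from a point of the tensor square. -/
theorem exists_pair (F : Type u) [Field F] [Algebra K F] {T : Over (Spec (CommRingCat.of K))} (t₁ t₂ : T ⟶ P j₀ F) :
    ∃ h : T ⟶ P j₀ (F ⊗[K] F), h ≫ Pmap j₀ (iL K F) = t₁ ∧ h ≫ Pmap j₀ (iR K F) = t₂ := by
  let g₁ : T.left ⟶ Spec (CommRingCat.of F) := t₁.left
  let g₂ : T.left ⟶ Spec (CommRingCat.of F) := t₂.left
  let p : Spec (CommRingCat.of F) ⟶ Spec (CommRingCat.of K) := Spec.map (CommRingCat.ofHom (algebraMap K F))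
  have hg : g₁ ≫ p = g₂ ≫ p := by
    have e1 := Over.w t₁
    have e2 := Over.w t₂
    simp only [P, Over.mk_hom, Category.comp_id] at e1 e2
    exact e1.trans e2.symm
  let l : T.left ⟶ Spec (CommRingCat.of (F ⊗[K] F)) := pullback.lift g₁ g₂ hg ≫ (pullbackSpecIso K F F).hom
  have h1 : l ≫ Spec.map (CommRingCat.ofHom (iL K F).toRingHom) = g₁ := by
    rw [Category.assoc]
    refine (_ ≫= ?_).trans (pullback.lift_fst g₁ g₂ hg)
    exact (Iso.eq_inv_comp _).mp (pullbackSpecIso_inv_fst K F F).symm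
  have h2 : l ≫ Spec.map (CommRingCat.ofHom (iR K F).toRingHom) = g₂ := by
    rw [Category.assoc]
    refine (_ ≫= ?_).trans (pullback.lift_snd g₁ g₂ hg)
    exact (Iso.eq_inv_comp _).mp (pullbackSpecIso_inv_snd K F F).symm
  refine ⟨Over.homMk l ?_, Over.OverMorphism.ext h1, Over.OverMorphism.ext h2⟩
  have e : l ≫ Spec.map (CommRingCat.ofHom (iL K F).toRingHom) ≫ (P j₀ F).hom = T.hom := by
    rw [← Category.assoc, h1]
    exact Over.w t₁
  refine Eq.trans ?_ e
  exact congrArg (l ≫ ·) (Over.w (Pmap j₀ (iL K F))).symm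

/-- Every torsor with a point in a field extension is trivial. -/
def SpecialAt (B : Over (Spec (CommRingCat.of K))) [GrpObj B] : Prop :=
  ∀ (X : Over (Spec (CommRingCat.of K))) (a : AlgGrp.Action B X), NonAbH1.IsPseudoTorsorSch a →
    (∃ (F : Type u) (_ : Field F) (_ : Algebra K F), Nonempty (P j₀ F ⟶ X)) →
      Nonempty (𝟙_ (Over (Spec (CommRingCat.of K))) ⟶ X)

theorem specialAt_of_trivial (B : Over (Spec (CommRingCat.of K))) [GrpObj B] (hB : Red.IsTrivialGrp B) :
    SpecialAt B := by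
  rintro X a ha ⟨F, _, _, ⟨x₀⟩⟩
  obtain ⟨_, _, _, _⟩ := fpqc_fst (K := K) F (𝟙_ _)
  obtain ⟨s, -⟩ := exists_descQC (fst (𝟙_ (Over (Spec (CommRingCat.of K)))) (P j₀ F)) (snd _ _ ≫ x₀) (fun T x y _ => by
    obtain ⟨g, hg⟩ := SchTorsor.exists_div ha (x ≫ snd _ _ ≫ x₀) (y ≫ snd _ _ ≫ x₀)
    haveI : IsIso B.hom := hB
    have hg1 : g = 1 := Over.OverMorphism.ext ((cancel_mono B.hom).1 ((Over.w g).trans (Over.w 1).symm))
    rw [hg1, SchTorsor.one_act_pt] at hg
    exact hg.symm)
  exact ⟨s⟩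

/-- The class of a torsor in a quotient with trivial cocycles is trivial: reduction to the kernel. -/
theorem specialAt_step {B' B Q : Over (Spec (CommRingCat.of K))} [GrpObj B'] [GrpObj B] [GrpObj Q]
    (i : B' ⟶ B) [IsMonHom i] (q : B ⟶ Q) [IsMonHom q] [Surjective q.left] (hk : AlgGrp.IsKernel i q)
    (hQ : QTriv j₀ Q) (hB' : SpecialAt B') : SpecialAt B := by
  rintro X a ha ⟨F, _, _, ⟨x₀⟩⟩
  haveI : Mono i := by
    refine ⟨fun {T} u v e => hk.hom_ext e (toUnit_unique _ _)⟩
  -- the cocycle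
  let d : P j₀ (F ⊗[K] F) ⟶ Q := gd j₀ ha x₀ (iL K F) (iR K F) ≫ q
  obtain ⟨f, hf⟩ := hQ F d (by
    simp only [d]
    rw [← Category.assoc, gd_cocycle, MonObj.mul_comp, Category.assoc, Category.assoc])
  -- the descended map to the quotient
  obtain ⟨_, _, _, _⟩ := fpqc_fst (K := K) F X
  obtain ⟨δ, hδ⟩ := SchTorsor.exists_div ha (fst X (P j₀ F)) (snd X (P j₀ F) ≫ x₀)
  let g : X ⊗ P j₀ F ⟶ Q := (δ ≫ q) * (snd X (P j₀ F) ≫ f)
  obtain ⟨φ, hφ⟩ := exists_descQC (fst X (P j₀ F)) g (fun T x y e => by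
    obtain ⟨h, h1, h2⟩ := exists_pair F (x ≫ snd X (P j₀ F)) (y ≫ snd X (P j₀ F))
    have hx := congrArg (x ≫ ·) hδ
    have hy := congrArg (y ≫ ·) hδ
    simp only [comp_lift_assoc] at hx hy
    have hg' := congrArg (h ≫ ·) (gd_spec j₀ ha x₀ (iL K F) (iR K F))
    simp only [comp_lift_assoc, reassoc_of% h1, reassoc_of% h2] at hg'
    have key : y ≫ δ = (x ≫ δ) * (h ≫ gd j₀ ha x₀ (iL K F) (iR K F)) := by
      refine SchTorsor.act_free ha (y := (y ≫ snd X (P j₀ F)) ≫ x₀) ?_
      rw [SchTorsor.act_assoc, Category.assoc, hg', hy, ← e, hx]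
    have hh : h ≫ d = (x ≫ snd X (P j₀ F) ≫ f) * (y ≫ snd X (P j₀ F) ≫ f)⁻¹ := by
      rw [hf, MonObj.comp_mul, GrpObj.comp_inv, reassoc_of% h1, reassoc_of% h2]
    simp only [g, MonObj.comp_mul]
    rw [← Category.assoc y δ q, key, MonObj.mul_comp, Category.assoc, Category.assoc, hh, _root_.mul_assoc,
      inv_mul_cancel_right])
  -- equivariance
  have heq : ∀ {T : Over (Spec (CommRingCat.of K))} (b : T ⟶ B) (x : T ⟶ X),
      (lift b x ≫ a.act) ≫ φ = (b ≫ q) * (x ≫ φ) := by
    intro T b x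
    obtain ⟨_, _, _, hπ⟩ := fpqc_fst (K := K) F T
    haveI := hπ
    rw [← cancel_epi (fst T (P j₀ F))]
    let π := fst T (P j₀ F)
    let z : T ⊗ P j₀ F ⟶ X ⊗ P j₀ F := lift (π ≫ lift b x ≫ a.act) (snd T (P j₀ F))
    let z' : T ⊗ P j₀ F ⟶ X ⊗ P j₀ F := lift (π ≫ x) (snd T (P j₀ F))
    have e1 : π ≫ (lift b x ≫ a.act) ≫ φ = z ≫ g := by
      rw [← hφ, ← Category.assoc z, lift_fst]
      simp only [Category.assoc]
    have e2 : π ≫ x ≫ φ = z' ≫ g := by
      rw [← hφ, ← Category.assoc z', lift_fst]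
      simp only [Category.assoc]
    have hz : lift (z ≫ δ) (snd T (P j₀ F) ≫ x₀) ≫ a.act = π ≫ lift b x ≫ a.act := by
      have := congrArg (z ≫ ·) hδ
      simp only [comp_lift_assoc, z, lift_fst, lift_snd_assoc] at this ⊢
      exact this
    have hz' : lift (z' ≫ δ) (snd T (P j₀ F) ≫ x₀) ≫ a.act = π ≫ x := by
      have := congrArg (z' ≫ ·) hδ
      simp only [comp_lift_assoc, z', lift_fst, lift_snd_assoc] at this ⊢
      exact this
    have key : z ≫ δ = (π ≫ b) * (z' ≫ δ) := by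
      refine SchTorsor.act_free ha (y := snd T (P j₀ F) ≫ x₀) ?_
      rw [hz, SchTorsor.act_assoc, hz', comp_lift_assoc]
    rw [e1, MonObj.comp_mul (fst T (P j₀ F)) (b ≫ q) (x ≫ φ), show fst T (P j₀ F) ≫ x ≫ φ = z' ≫ g from e2]
    simp only [g, MonObj.comp_mul]
    rw [← Category.assoc z δ q, key, MonObj.mul_comp, _root_.mul_assoc]
    simp only [z, z', lift_snd_assoc, Category.assoc]
    rfl
  -- the fibre over the unit
  let η₀ : 𝟙_ (Over (Spec (CommRingCat.of K))) ⟶ Q := η[Q]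
  let X' : Over (Spec (CommRingCat.of K)) := Over.mk (pullback.fst φ.left η₀.left ≫ X.hom)
  let jx : X' ⟶ X := Over.homMk (pullback.fst φ.left η₀.left) rfl
  let p₂ : X' ⟶ 𝟙_ (Over (Spec (CommRingCat.of K))) := Over.homMk (pullback.snd φ.left η₀.left) (by
    show _ = pullback.fst φ.left η₀.left ≫ X.hom
    rw [← Over.w φ, pullback.condition_assoc, Over.w η₀])
  have sq : IsPullback jx p₂ φ η₀ := IsPullback.of_map (Over.forget _)
    (Over.OverMorphism.ext pullback.condition) (IsPullback.of_hasPullback φ.left η₀.left)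
  have hone : ∀ {T : Over (Spec (CommRingCat.of K))}, toUnit T ≫ η₀ = (1 : T ⟶ Q) := fun {T} => Hom.one_def.symm
  have hjxφ : jx ≫ φ = 1 := by rw [sq.w, toUnit_unique p₂ (toUnit X'), hone]
  have hlift : ∀ {T : Over (Spec (CommRingCat.of K))} (x : T ⟶ X), x ≫ φ = 1 → ∃ x' : T ⟶ X', x' ≫ jx = x :=
    fun {T} x hx => ⟨sq.lift x (toUnit T) (by rw [hx, hone]), sq.lift_fst _ _ _⟩
  haveI : Mono jx := ⟨fun {T} u v e => sq.hom_ext e (toUnit_unique _ _)⟩
  have hiq : i ≫ q = 1 := by rw [hk.w, hone]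
  obtain ⟨act', hact'⟩ := hlift ((i ⊗ₘ jx) ≫ a.act) (by
    have := heq (fst B' X' ≫ i) (snd B' X' ≫ jx)
    have e : lift (fst B' X' ≫ i) (snd B' X' ≫ jx) = i ⊗ₘ jx := by
      apply CartesianMonoidalCategory.hom_ext <;> simp
    rw [e] at this
    rw [this, Category.assoc, hiq, MonObj.comp_one, _root_.one_mul, Category.assoc, hjxφ, MonObj.comp_one])
  have hpt : ∀ {T : Over (Spec (CommRingCat.of K))} (b : T ⟶ B') (x : T ⟶ X'),
      (lift b x ≫ act') ≫ jx = lift (b ≫ i) (x ≫ jx) ≫ a.act := fun b x => by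
    rw [Category.assoc, hact', lift_map_assoc]
  let a' : AlgGrp.Action B' X' :=
    { act := act'
      one_act := by
        rw [← cancel_mono jx]
        have e : (η[B'] ▷ X') = lift (toUnit _ ≫ η[B']) (snd _ X') := by
          apply CartesianMonoidalCategory.hom_ext
          · rw [whiskerRight_fst, lift_fst]; congr 1
          · rw [whiskerRight_snd, lift_snd]
        rw [e, hpt, ← Hom.one_def, MonObj.one_comp, SchTorsor.one_act_pt, leftUnitor_hom]
      mul_act := by
        rw [← cancel_mono jx]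
        have e1 : (μ[B'] ▷ X') = lift (fst (B' ⊗ B') X' ≫ μ[B']) (snd _ X') := by
          apply CartesianMonoidalCategory.hom_ext <;> simp
        have e2 : (α_ B' B' X').hom ≫ (B' ◁ act') = lift (fst (B' ⊗ B') X' ≫ fst B' B')
            (lift (fst (B' ⊗ B') X' ≫ snd B' B') (snd _ X') ≫ act') := by
          apply CartesianMonoidalCategory.hom_ext
          · simp
          · rw [Category.assoc, whiskerLeft_snd, lift_snd, ← Category.assoc]
            congr 1
            apply CartesianMonoidalCategory.hom_ext <;> simp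
        have e3 : fst (B' ⊗ B') X' ≫ μ[B'] =
            (fst (B' ⊗ B') X' ≫ fst B' B') * (fst (B' ⊗ B') X' ≫ snd B' B') := by
          rw [← MonObj.comp_mul, Hom.mul_def, lift_fst_snd, Category.id_comp]
        rw [e1, ← Category.assoc (α_ B' B' X').hom, e2, hpt, hpt, hpt, e3, MonObj.mul_comp, SchTorsor.act_assoc] }
  have ha' : NonAbH1.IsPseudoTorsorSch a' := by
    obtain ⟨b, hb⟩ := SchTorsor.exists_div ha (fst X' X' ≫ jx) (snd X' X' ≫ jx)
    have hbq : b ≫ q = toUnit (X' ⊗ X') ≫ η₀ := by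
      have := heq b (snd X' X' ≫ jx)
      rw [hb, Category.assoc, Category.assoc, hjxφ, MonObj.comp_one, MonObj.comp_one, _root_.mul_one] at this
      rw [hone, this]
    refine ⟨lift (hk.lift b (toUnit _) hbq) (snd X' X'), ?_, ?_⟩
    · apply CartesianMonoidalCategory.hom_ext
      · rw [Category.assoc, lift_fst, Category.id_comp, ← cancel_mono i, Category.assoc, hk.lift_fst]
        refine SchTorsor.act_free ha (y := snd B' X' ≫ jx) ?_
        have h1 := congrArg (lift act' (snd B' X') ≫ ·) hb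
        simp only [comp_lift_assoc, lift_fst_assoc, lift_snd_assoc] at h1
        refine h1.trans ?_
        rw [hact']
        congr 1
      · simp [a']
    · apply CartesianMonoidalCategory.hom_ext
      · rw [Category.assoc, lift_fst, Category.id_comp, ← cancel_mono jx, hpt, hk.lift_fst, hb]
      · simp [a']
  -- a point of the fibre in some extension
  let c : P j₀ F ⟶ Q := (x₀ ≫ φ)⁻¹
  let W := pullback q.left c.left
  haveI : Nonempty W := by
    obtain ⟨z, hz⟩ := (pullback.snd q.left c.left).surjective (IsLocalRing.closedPoint F)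
    exact ⟨z⟩
  let w : W := Classical.arbitrary W
  let F' := W.residueField w
  let pc : Spec (CommRingCat.of F') ⟶ Spec (CommRingCat.of F) :=
    W.fromSpecResidueField w ≫ pullback.snd q.left c.left
  let σ : F →+* F' := (Spec.preimage pc).hom
  letI : Algebra F F' := σ.toAlgebra
  letI : Algebra K F' := (σ.comp (algebraMap K F)).toAlgebra
  let χ : F →ₐ[K] F' := ⟨σ, fun r => rfl⟩
  have hpc : Spec.map (CommRingCat.ofHom χ.toRingHom) = pc := Spec.map_preimage pc
  let b₀ : P j₀ F' ⟶ B := Over.homMk (W.fromSpecResidueField w ≫ pullback.fst q.left c.left) (by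
    rw [← Over.w q, Category.assoc, pullback.condition_assoc, Over.w c, ← Category.assoc]
    show pc ≫ (P j₀ F).hom = _
    rw [← hpc]
    exact Over.w (Pmap j₀ χ))
  have hb₀ : b₀ ≫ q = Pmap j₀ χ ≫ c := by
    apply Over.OverMorphism.ext
    show (W.fromSpecResidueField w ≫ pullback.fst q.left c.left) ≫ q.left = Spec.map _ ≫ c.left
    rw [hpc, Category.assoc, pullback.condition, Category.assoc]
  obtain ⟨x', -⟩ := hlift (lift b₀ (Pmap j₀ χ ≫ x₀) ≫ a.act) (by
    rw [heq, hb₀, Category.assoc, ← MonObj.comp_mul]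
    simp only [c, inv_mul_cancel, MonObj.comp_one])
  obtain ⟨s⟩ := hB' X' a' ha' ⟨F', inferInstance, inferInstance, ⟨x'⟩⟩
  exact ⟨s ≫ jx⟩

end Field

end Groth.Agent.Deform.SpecialGrp
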